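import Groth.Prelude.Def_Curv2

set_option autoImplicit false
set_option linter.style.haveILetI false

/-!
# Normalization of an integral scheme over an affine open
-/

namespace Groth.Agent.NormalizationAffine

universe u

open CategoryTheory CategoryTheory.Limits AlgebraicGeometry Opposite TopologicalSpace

variable {X : Scheme.{u}} [IsIntegral X]
  [QuasiCompact (X.fromSpecStalk (genericPoint X))] [QuasiSeparated (X.fromSpecStalk (genericPoint X))]

/-- The sections of the normalization over the preimage of `U`. -/
noncomputable abbrev Sect (U : X.Opens) : Type u :=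
  Γ(Curv2.normalization X, (Curv2.normalizationι X) ⁻¹ᵁ U)

noncomputable instance sectAlgebra (U : X.Opens) : Algebra Γ(X, U) (Sect U) :=
  ((Curv2.normalizationι X).app U).hom.toAlgebra

theorem generic_mem (U : X.Opens) [h : Nonempty U] : genericPoint X ∈ U :=
  ((genericPoint_spec X).mem_open_set_iff U.isOpen).mpr (by simpa using h)

theorem preimage_fromSpecStalk (U : X.Opens) [Nonempty U] :
    (X.fromSpecStalk (genericPoint X)) ⁻¹ᵁ U = ⊤ := by
  refine eq_top_iff.mpr fun z _ => ?_
  have hz : (X.fromSpecStalk (genericPoint X)) z ⤳ genericPoint X := by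
    have : (X.fromSpecStalk (genericPoint X)) z ∈ Set.range (X.fromSpecStalk (genericPoint X)) :=
      ⟨z, rfl⟩
    rwa [Scheme.range_fromSpecStalk] at this
  exact hz.mem_open U.isOpen (generic_mem U)

/-- Sections of `Spec K` over the preimage of `U` are `K`. -/
noncomputable def genericIso (U : X.Opens) [Nonempty U] :
    Γ(Spec X.functionField, (X.fromSpecStalk (genericPoint X)) ⁻¹ᵁ U) ≅ X.functionField :=
  (Spec X.functionField).presheaf.mapIso (eqToIso (preimage_fromSpecStalk U).symm).op ≪≫
    Scheme.ΓSpecIso _

theorem map_le_top_comp {Y : Scheme.{u}} (V : Y.Opens) (h : ⊤ = V) :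
    Y.presheaf.map (homOfLE (le_top : V ≤ ⊤)).op ≫ Y.presheaf.map (eqToHom h).op = 𝟙 _ := by
  subst h
  simp

theorem app_genericIso (U : X.Opens) [Nonempty U] :
    (X.fromSpecStalk (genericPoint X)).app U ≫ (genericIso U).hom = X.germToFunctionField U := by
  rw [Scheme.fromSpecStalk_app (generic_mem U)]
  simp only [genericIso, Category.assoc, Iso.trans_hom, Functor.mapIso_hom, Iso.op_hom, eqToIso.hom]
  have h := map_le_top_comp ((X.fromSpecStalk (genericPoint X)) ⁻¹ᵁ U) (preimage_fromSpecStalk U).symm
  rw [reassoc_of% h, Iso.inv_hom_id, Category.comp_id]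

/-- The embedding of the sections of the normalization into the function field. -/
noncomputable def toK (U : X.Opens) [Nonempty U] : Sect U →+* X.functionField :=
  ((X.fromSpecStalk (genericPoint X)).toNormalization.appLE
      ((X.fromSpecStalk (genericPoint X)).fromNormalization ⁻¹ᵁ U)
      ((X.fromSpecStalk (genericPoint X)) ⁻¹ᵁ U)
      (by simp [← Scheme.Hom.comp_preimage]) ≫ (genericIso U).hom).hom

noncomputable instance sectFieldAlgebra (U : X.Opens) [Nonempty U] :
    Algebra (Sect U) X.functionField :=
  (toK U).toAlgebra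

theorem toK_algebraMap (U : X.Opens) [Nonempty U] (a : Γ(X, U)) :
    toK U (algebraMap Γ(X, U) (Sect U) a) = algebraMap Γ(X, U) X.functionField a := by
  have h0 : (X.fromSpecStalk (genericPoint X)).fromNormalization.app U ≫
      (X.fromSpecStalk (genericPoint X)).toNormalization.appLE
        ((X.fromSpecStalk (genericPoint X)).fromNormalization ⁻¹ᵁ U)
        ((X.fromSpecStalk (genericPoint X)) ⁻¹ᵁ U)
        (by simp [← Scheme.Hom.comp_preimage]) = (X.fromSpecStalk (genericPoint X)).app U := by
    simp [Scheme.Hom.app_eq_appLE, Scheme.Hom.appLE_comp_appLE]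
  have h := congrArg (· ≫ (genericIso U).hom) h0
  simp only [Category.assoc] at h
  rw [app_genericIso] at h
  exact ConcreteCategory.congr_hom h a

instance sect_isScalarTower (U : X.Opens) [Nonempty U] :
    IsScalarTower Γ(X, U) (Sect U) X.functionField :=
  IsScalarTower.of_algebraMap_eq fun a => (toK_algebraMap U a).symm

/-- On a nonempty affine open, the sections of the normalization are the integral closure in the
function field. -/
theorem isIntegralClosure_sect {U : X.Opens} (hU : IsAffineOpen U) [Nonempty U] :
    IsIntegralClosure (Sect U) Γ(X, U) X.functionField := by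
  letI := ((X.fromSpecStalk (genericPoint X)).app U).hom.toAlgebra
  let σ : Γ(Spec X.functionField, (X.fromSpecStalk (genericPoint X)) ⁻¹ᵁ U) ≃ₐ[Γ(X, U)] X.functionField :=
    AlgEquiv.ofRingEquiv (f := (genericIso U).commRingCatIsoToRingEquiv)
      (fun a => ConcreteCategory.congr_hom (app_genericIso U) a)
  have key : ∀ b : Sect U, toK U b =
      σ (((X.fromSpecStalk (genericPoint X)).normalizationObjIso hU).hom b).1 := by
    intro b
    have h := ConcreteCategory.congr_hom
      (congrArg (· ≫ (genericIso U).hom)
        ((X.fromSpecStalk (genericPoint X)).normalizationObjIso_hom_val hU)) b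
    exact h.symm
  refine ⟨?_, fun {x} => ⟨fun hx => ?_, ?_⟩⟩
  · intro a b h
    have h' : toK U a = toK U b := h
    rw [key, key] at h'
    exact ((X.fromSpecStalk (genericPoint X)).normalizationObjIso hU).commRingCatIsoToRingEquiv.injective
      (Subtype.ext (σ.injective h'))
  · refine ⟨((X.fromSpecStalk (genericPoint X)).normalizationObjIso hU).inv
      ⟨σ.symm x, hx.map σ.symm.toAlgHom⟩, ?_⟩
    refine (key _).trans ?_
    rw [CategoryTheory.Iso.inv_hom_id_apply]
    exact σ.apply_symm_apply x
  · rintro ⟨b, rfl⟩
    show IsIntegral Γ(X, U) (toK U b)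
    rw [key]
    exact (((X.fromSpecStalk (genericPoint X)).normalizationObjIso hU).hom b).2.map σ.toAlgHom

theorem isAffineOpen_preimage {U : X.Opens} (hU : IsAffineOpen U) :
    IsAffineOpen ((Curv2.normalizationι X) ⁻¹ᵁ U) :=
  hU.preimage (X.fromSpecStalk (genericPoint X)).fromNormalization

end Groth.Agent.NormalizationAffine
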