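import Groth.Agent.NormalizationAffine.Basic
import Groth.Agent.NormalizationAffine.EnatTsum
import Groth.Prelude.Def_Brnch

set_option autoImplicit false
set_option linter.style.haveILetI false

/-!
# Branches of an integral scheme and the fibre of its normalization
-/

namespace Groth.Agent.NormalizationAffine

universe u

open CategoryTheory CategoryTheory.Limits AlgebraicGeometry Opposite TopologicalSpace

/-- For a domain the normalization of the reduction is the integral closure in any fraction field. -/
theorem exists_normRed_equiv (S : Type u) [CommRing S] [IsDomain S] (K : Type u) [Field K]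
    [Algebra S K] [IsFractionRing S K] :
    ∃ e : integralClosure S K ≃+* CAlg2.normRed S,
      ∀ a, e (algebraMap S (integralClosure S K) a) =
        algebraMap (CAlg2.red S) (CAlg2.normRed S) (Ideal.Quotient.mk (nilradical S) a) := by
  let q : S →ₐ[S] CAlg2.red S := Ideal.Quotient.mkₐ S (nilradical S)
  have hq : Function.Bijective q := ⟨(injective_iff_map_eq_zero q).mpr fun a ha => by
    have : a ∈ nilradical S := Ideal.Quotient.eq_zero_iff_mem.mp ha
    rwa [nilradical_eq_zero S] at this, Ideal.Quotient.mk_surjective⟩
  let φ : K ≃ₐ[S] FractionRing (CAlg2.red S) :=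
    IsFractionRing.algEquivOfAlgEquiv (AlgEquiv.ofBijective q hq)
  haveI : Algebra.IsIntegral S (CAlg2.red S) := Algebra.IsIntegral.of_surjective q hq.2
  let e : integralClosure S K ≃+* CAlg2.normRed S :=
    { toFun := fun x => ⟨φ x.1, (x.2.map φ.toAlgHom).tower_top⟩
      invFun := fun y => ⟨φ.symm y.1, IsIntegral.map φ.symm.toAlgHom (isIntegral_trans (R := S) y.1 y.2)⟩
      left_inv := fun x => Subtype.ext (φ.symm_apply_apply x.1)
      right_inv := fun y => Subtype.ext (φ.apply_symm_apply y.1)
      map_mul' := fun x y => Subtype.ext (map_mul φ _ _)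
      map_add' := fun x y => Subtype.ext (map_add φ _ _) }
  exact ⟨e, fun a => Subtype.ext (φ.commutes a)⟩

variable {X : Scheme.{u}} [IsIntegral X]
  [QuasiCompact (X.fromSpecStalk (genericPoint X))] [QuasiSeparated (X.fromSpecStalk (genericPoint X))]

/-- The points of the normalization over `x` are the maximal ideals of the normalization of the local
ring, compatibly with the embeddings of the residue fields. -/
theorem exists_fibre_equiv (x : X) :
    ∃ F : {x' : ↥(Curv2.normalization X) // (Curv2.normalizationι X).base x' = x} ≃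
        MaximalSpectrum (CAlg2.normRed (X.presheaf.stalk x)),
      ∀ x', Nonempty
        ((letI := ((Curv2.normalizationι X).residueFieldMap x'.1).hom.toAlgebra
          Field.Emb (X.residueField ((Curv2.normalizationι X).base x'.1))
            ((Curv2.normalization X).residueField x'.1)) ≃
          Brnch.Emb (X.presheaf.stalk x) (F x')) := by
  classical
  let S : Type u := X.presheaf.stalk x
  let K : Type u := X.functionField
  obtain ⟨U, hU, hxU, -⟩ := exists_isAffineOpen_mem_and_subset (show x ∈ (⊤ : X.Opens) from trivial)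
  haveI : Nonempty U := ⟨⟨_, hxU⟩⟩
  haveI := isIntegralClosure_sect hU
  haveI : Algebra.IsIntegral Γ(X, U) (Sect U) :=
    IsIntegralClosure.isIntegral_algebra Γ(X, U) X.functionField
  letI algS : Algebra Γ(X, U) (X.presheaf.stalk x) :=
    TopCat.Presheaf.algebra_section_stalk X.presheaf ⟨x, hxU⟩
  haveI : IsScalarTower Γ(X, U) (X.presheaf.stalk x) X.functionField :=
    functionField_isScalarTower X U ⟨x, hxU⟩
  set p := (hU.primeIdealOf ⟨x, hxU⟩).asIdeal with hp
  haveI hSloc : IsLocalization.AtPrime (X.presheaf.stalk x) p := hU.isLocalization_stalk ⟨x, hxU⟩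
  set C := integralClosure (X.presheaf.stalk x) X.functionField with hC
  obtain ⟨e, he⟩ := exists_normRed_equiv (X.presheaf.stalk x) X.functionField
  let j : Sect U →+* C := RingHom.codRestrict (toK U) C fun b =>
    ((IsIntegralClosure.isIntegral_iff (A := Sect U) (R := Γ(X, U)) (B := X.functionField)).mpr
      ⟨b, rfl⟩).tower_top
  have hj : Function.Injective j := fun a b h =>
    IsIntegralClosure.algebraMap_injective (Sect U) Γ(X, U) X.functionField (congrArg Subtype.val h :)
  have hjA : ∀ a : Γ(X, U), j (algebraMap Γ(X, U) (Sect U) a) =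
      algebraMap (X.presheaf.stalk x) C (algebraMap Γ(X, U) (X.presheaf.stalk x) a) := fun a =>
    Subtype.ext ((toK_algebraMap U a).trans
      (IsScalarTower.algebraMap_apply Γ(X, U) (X.presheaf.stalk x) X.functionField a))
  letI algC : Algebra (Sect U) C := j.toAlgebra
  haveI hCloc : IsLocalization (Algebra.algebraMapSubmonoid (Sect U) p.primeCompl) C := by
    constructor
    refine ⟨?_, fun c => ?_, fun {a b} h => ⟨1, by rw [hj h]⟩⟩
    · rintro ⟨_, s, hs, rfl⟩
      show IsUnit (j (algebraMap Γ(X, U) (Sect U) s))
      rw [hjA]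
      exact (IsLocalization.map_units (X.presheaf.stalk x) (⟨s, hs⟩ : p.primeCompl)).map _
    · obtain ⟨⟨s, hs⟩, hint⟩ :=
        (show IsIntegral (X.presheaf.stalk x) (c : X.functionField) from c.2).exists_multiple_integral_of_isLocalization
          p.primeCompl _
      obtain ⟨b, hb⟩ := (IsIntegralClosure.isIntegral_iff (A := Sect U) (R := Γ(X, U))
        (B := X.functionField)).mp hint
      refine ⟨⟨b, algebraMap Γ(X, U) (Sect U) s, s, hs, rfl⟩, ?_⟩
      show c * j (algebraMap Γ(X, U) (Sect U) s) = j b
      rw [hjA]
      refine Subtype.ext ?_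
      show (c : X.functionField) * algebraMap (X.presheaf.stalk x) X.functionField
        (algebraMap Γ(X, U) (X.presheaf.stalk x) s) = toK U b
      rw [← IsScalarTower.algebraMap_apply, show toK U b = algebraMap (Sect U) X.functionField b from rfl,
        hb, Submonoid.mk_smul, Algebra.smul_def, mul_comm]
  set hV := isAffineOpen_preimage (X := X) hU with hVdef
  have hmem : ∀ x' : {x' : ↥(Curv2.normalization X) // (Curv2.normalizationι X).base x' = x},
      x'.1 ∈ (Curv2.normalizationι X) ⁻¹ᵁ U := fun x' => (x'.2.symm ▸ hxU :)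
  -- the maximal ideal attached to a point of the fibre
  have key : ∀ x' : {x' : ↥(Curv2.normalization X) // (Curv2.normalizationι X).base x' = x},
      ∃ Q : MaximalSpectrum C, Q.asIdeal.comap j = (hV.primeIdealOf ⟨x'.1, hmem x'⟩).asIdeal ∧
      Nonempty
        ((letI := ((Curv2.normalizationι X).residueFieldMap x'.1).hom.toAlgebra
          Field.Emb (X.residueField ((Curv2.normalizationι X).base x'.1))
            ((Curv2.normalization X).residueField x'.1)) ≃
          {σ : C ⧸ Q.asIdeal →+* AlgebraicClosure (IsLocalRing.ResidueField (X.presheaf.stalk x)) //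
            σ.comp ((Ideal.Quotient.mk Q.asIdeal).comp (algebraMap (X.presheaf.stalk x) C)) =
              Brnch.toClosure (X.presheaf.stalk x)}) := by
    rintro ⟨x', rfl⟩
    letI algk := ((Curv2.normalizationι X).residueFieldMap x').hom.toAlgebra
    set hx'V : x' ∈ (Curv2.normalizationι X) ⁻¹ᵁ U := hxU
    letI algY : Algebra (Sect U) ((Curv2.normalization X).presheaf.stalk x') :=
      TopCat.Presheaf.algebra_section_stalk (Curv2.normalization X).presheaf ⟨x', hx'V⟩
    haveI hYloc := hV.isLocalization_stalk ⟨x', hx'V⟩
    set q := (hV.primeIdealOf ⟨x', hx'V⟩).asIdeal with hq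
    have hqp : q.comap (algebraMap Γ(X, U) (Sect U)) = p := by
      have h := IsAffineOpen.comap_primeIdealOf_appLE (f := Curv2.normalizationι X) (x := x') U hU
        ((Curv2.normalizationι X) ⁻¹ᵁ U) hV le_rfl hxU
      rw [← Scheme.Hom.app_eq_appLE] at h
      exact congrArg PrimeSpectrum.asIdeal h
    have hunits : ∀ s : Algebra.algebraMapSubmonoid (Sect U) p.primeCompl,
        IsUnit (algebraMap (Sect U) ((Curv2.normalization X).presheaf.stalk x') s) := by
      rintro ⟨_, s, hs, rfl⟩
      refine IsLocalization.map_units _ (⟨algebraMap Γ(X, U) (Sect U) s, fun h => hs ?_⟩ : q.primeCompl)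
      exact hqp.le h
    let g : C →+* (Curv2.normalization X).residueField x' :=
      ((Curv2.normalization X).residue x').hom.comp (IsLocalization.lift hunits)
    let evy : Sect U →+* (Curv2.normalization X).residueField x' :=
      ((Curv2.normalization X).residue x').hom.comp
        (algebraMap (Sect U) ((Curv2.normalization X).presheaf.stalk x'))
    have hgj : ∀ b, g (j b) = evy b := fun b =>
      congrArg ((Curv2.normalization X).residue x').hom (IsLocalization.lift_eq hunits b)
    have hker : ∀ b, evy b = 0 ↔ b ∈ q := fun b =>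
      (IsLocalRing.residue_eq_zero_iff _).trans (IsLocalization.AtPrime.to_map_mem_maximal_iff _ q b)
    have hgS : g.comp (algebraMap (X.presheaf.stalk ((Curv2.normalizationι X).base x')) C) =
        (algebraMap (X.residueField ((Curv2.normalizationι X).base x'))
          ((Curv2.normalization X).residueField x')).comp
          (X.residue ((Curv2.normalizationι X).base x')).hom := by
      refine IsLocalization.ringHom_ext p.primeCompl (RingHom.ext fun a => ?_)
      show g (algebraMap _ C (algebraMap Γ(X, U) _ a)) = _
      rw [← hjA, hgj]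
      exact (Scheme.evaluation_naturality_apply (Curv2.normalizationι X) x' hxU a).symm
    haveI hQp : (RingHom.ker g).IsPrime := RingHom.ker_isPrime g
    have hQS : (RingHom.ker g).comap (algebraMap (X.presheaf.stalk ((Curv2.normalizationι X).base x')) C) =
        IsLocalRing.maximalIdeal _ := by
      ext a
      rw [Ideal.mem_comap, RingHom.mem_ker, ← RingHom.comp_apply, hgS, RingHom.comp_apply,
        map_eq_zero]
      exact IsLocalRing.residue_eq_zero_iff a
    have hQmax : (RingHom.ker g).IsMaximal :=
      Ideal.isMaximal_of_isIntegral_of_isMaximal_comap' _ (algebraMap_isIntegral_iff.mpr inferInstance) _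
        (hQS ▸ IsLocalRing.maximalIdeal.isMaximal _)
    haveI := hQmax
    have hgsurj : Function.Surjective g := by
      intro v
      obtain ⟨w, rfl⟩ := (Curv2.normalization X).residue_surjective x' v
      obtain ⟨⟨b, s⟩, hbs⟩ := IsLocalization.surj q.primeCompl w
      have hs : g (j s) ≠ 0 := by rw [hgj]; exact fun h => s.2 ((hker _).mp h)
      obtain ⟨t, i, hi, hti⟩ := hQmax.exists_inv (x := j (s : Sect U)) hs
      refine ⟨j b * t, ?_⟩
      have h1 : g t * g (j s) = 1 := by
        have := congrArg g hti
        rw [map_add, map_mul, RingHom.mem_ker.mp hi, add_zero, map_one] at this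
        exact this
      have h2 : ((Curv2.normalization X).residue x').hom w * g (j s) = g (j b) := by
        rw [hgj, hgj]
        exact (map_mul _ _ _).symm.trans (congrArg _ hbs)
      rw [map_mul, ← h2, mul_assoc, mul_comm (g (j s)), h1, mul_one]
    refine ⟨⟨RingHom.ker g, hQmax⟩, ?_, ?_⟩
    · ext b
      show g (j b) = 0 ↔ b ∈ q
      rw [hgj]; exact hker b
    · let θ : C ⧸ RingHom.ker g ≃+* (Curv2.normalization X).residueField x' :=
        RingHom.quotientKerEquivOfSurjective hgsurj
      let k₀ : Type u := X.residueField ((Curv2.normalizationι X).base x')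
      haveI : Algebra.IsAlgebraic (X.residueField ((Curv2.normalizationι X).base x'))
          ((Curv2.normalization X).residueField x') := by
        refine ⟨fun v => IsIntegral.isAlgebraic ?_⟩
        obtain ⟨c, rfl⟩ := hgsurj v
        obtain ⟨P, hPm, hP⟩ := (Algebra.IsIntegral.isIntegral (R := X.presheaf.stalk ((Curv2.normalizationι X).base x')) c)
        refine ⟨P.map (X.residue ((Curv2.normalizationι X).base x')).hom, hPm.map _, ?_⟩
        rw [Polynomial.eval₂_map, ← hgS, ← Polynomial.hom_eval₂, hP, map_zero]
      refine ⟨(Field.embEquivOfIsAlgClosed _ _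
        (AlgebraicClosure (X.residueField ((Curv2.normalizationι X).base x')))).trans ?_⟩
      refine
        { toFun := fun τ => ⟨τ.toRingHom.comp θ.toRingHom, ?_⟩
          invFun := fun σ => { σ.1.comp θ.symm.toRingHom with commutes' := ?_ }
          left_inv := fun τ => AlgHom.ext fun v => congrArg τ (θ.apply_symm_apply v)
          right_inv := fun σ => Subtype.ext (RingHom.ext fun v => congrArg σ.1 (θ.symm_apply_apply v)) }
      · refine RingHom.ext fun a => ?_
        show τ (g (algebraMap _ C a)) = Brnch.toClosure _ a
        rw [show g (algebraMap _ C a) = _ from RingHom.congr_fun hgS a]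
        refine (τ.commutes ((X.residue ((Curv2.normalizationι X).base x')).hom a)).trans ?_
        rfl
      · intro r
        obtain ⟨a, rfl⟩ := IsLocalRing.residue_surjective r
        have h := RingHom.congr_fun σ.2 a
        refine Eq.trans ?_ h
        show σ.1 (θ.symm _) = σ.1 (Ideal.Quotient.mk _ (algebraMap _ C a))
        congr 1
        rw [RingEquiv.symm_apply_eq]
        exact (RingHom.congr_fun hgS a).symm
  choose Q hQ hQE using key
  let MQ : MaximalSpectrum C → MaximalSpectrum (CAlg2.normRed (X.presheaf.stalk x)) := fun m =>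
    ⟨m.asIdeal.comap e.symm.toRingHom,
      haveI := m.isMaximal; Ideal.comap_isMaximal_of_surjective _ e.symm.surjective⟩
  have hMQ : Function.Bijective MQ := by
    refine ⟨fun m m' h => MaximalSpectrum.ext ?_, fun n => ?_⟩
    · exact Ideal.comap_injective_of_surjective _ e.symm.surjective (congrArg MaximalSpectrum.asIdeal h)
    · haveI := n.isMaximal
      refine ⟨⟨n.asIdeal.comap e.toRingHom, Ideal.comap_isMaximal_of_surjective _ e.surjective⟩,
        MaximalSpectrum.ext ?_⟩
      ext v
      show e (e.symm v) ∈ n.asIdeal ↔ _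
      rw [RingEquiv.apply_symm_apply]
  have hQbij : Function.Bijective Q := by
    refine ⟨fun a b h => ?_, fun m => ?_⟩
    · have h' : hV.primeIdealOf ⟨a.1, hmem a⟩ = hV.primeIdealOf ⟨b.1, hmem b⟩ :=
        PrimeSpectrum.ext ((hQ a).symm.trans (h ▸ hQ b))
      have := congrArg hV.fromSpec h'
      rw [hV.fromSpec_primeIdealOf, hV.fromSpec_primeIdealOf] at this
      exact Subtype.ext this
    · haveI := m.isMaximal
      haveI hqp : (m.asIdeal.comap j).IsPrime := Ideal.comap_isPrime _ _
      let z : PrimeSpectrum (Sect U) := ⟨m.asIdeal.comap j, hqp⟩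
      have hzV : hV.fromSpec z ∈ (Curv2.normalizationι X) ⁻¹ᵁ U := by
        have : hV.fromSpec z ∈ Set.range hV.fromSpec := ⟨_, rfl⟩
        rwa [hV.range_fromSpec] at this
      have hzp : (m.asIdeal.comap j).comap (algebraMap Γ(X, U) (Sect U)) = p := by
        have hmS : m.asIdeal.comap (algebraMap (X.presheaf.stalk x) C) = IsLocalRing.maximalIdeal _ :=
          IsLocalRing.eq_maximalIdeal
            (Ideal.isMaximal_comap_of_isIntegral_of_isMaximal (R := X.presheaf.stalk x) m.asIdeal)
        ext a
        rw [Ideal.mem_comap, Ideal.mem_comap, hjA, ← Ideal.mem_comap, hmS]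
        exact IsLocalization.AtPrime.to_map_mem_maximal_iff _ p a
      have hz : hV.primeIdealOf ⟨hV.fromSpec z, hzV⟩ = z :=
        hV.fromSpec.isOpenEmbedding.injective (hV.fromSpec_primeIdealOf _)
      have hx : (Curv2.normalizationι X).base (hV.fromSpec z) = x := by
        have h := IsAffineOpen.comap_primeIdealOf_appLE (f := Curv2.normalizationι X) (x := hV.fromSpec z) U hU
          ((Curv2.normalizationι X) ⁻¹ᵁ U) hV le_rfl hzV
        rw [← Scheme.Hom.app_eq_appLE, hz] at h
        have h2 : hU.primeIdealOf ⟨(Curv2.normalizationι X) (hV.fromSpec z), hzV⟩ = hU.primeIdealOf ⟨x, hxU⟩ :=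
          h.symm.trans (PrimeSpectrum.ext hzp)
        have := congrArg hU.fromSpec h2
        rwa [hU.fromSpec_primeIdealOf, hU.fromSpec_primeIdealOf] at this
      refine ⟨⟨hV.fromSpec z, hx⟩, MaximalSpectrum.ext ?_⟩
      refine (IsLocalization.orderEmbedding (Algebra.algebraMapSubmonoid (Sect U) p.primeCompl) C).injective ?_
      show (Q _).asIdeal.comap j = m.asIdeal.comap j
      rw [hQ]
      exact congrArg PrimeSpectrum.asIdeal hz
  refine ⟨(Equiv.ofBijective Q hQbij).trans (Equiv.ofBijective MQ hMQ), fun x' => ?_⟩
  obtain ⟨E⟩ := hQE x'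
  let τ : C ⧸ (Q x').asIdeal ≃+* CAlg2.normRed (X.presheaf.stalk x) ⧸ (MQ (Q x')).asIdeal :=
    Ideal.quotientEquiv _ _ e (by
      show (Q x').asIdeal.comap e.symm.toRingHom = _
      exact (Ideal.map_comap_of_equiv e).symm)
  refine ⟨E.trans
    { toFun := fun σ => ⟨σ.1.comp τ.symm.toRingHom, RingHom.ext fun a => ?_⟩
      invFun := fun σ => ⟨σ.1.comp τ.toRingHom, RingHom.ext fun a => ?_⟩
      left_inv := fun σ => Subtype.ext (RingHom.ext fun v => congrArg σ.1 (τ.symm_apply_apply v))
      right_inv := fun σ => Subtype.ext (RingHom.ext fun v => congrArg σ.1 (τ.apply_symm_apply v)) }⟩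
  · refine Eq.trans ?_ (RingHom.congr_fun σ.2 a)
    show σ.1 (τ.symm (Ideal.Quotient.mk _ (algebraMap (CAlg2.red _) _ (Ideal.Quotient.mk _ a)))) = _
    rw [← he]
    exact congrArg σ.1 ((RingEquiv.symm_apply_eq τ).mpr rfl)
  · refine Eq.trans ?_ (RingHom.congr_fun σ.2 a)
    show σ.1 (Ideal.Quotient.mk _ (e (algebraMap _ C a))) = _
    rw [he]
    rfl

theorem branches_eq (x : X) :
    Brnch.numBranchesAt X x =
        ENat.card {x' : ↥(Curv2.normalization X) // (Curv2.normalizationι X).base x' = x} ∧
      Brnch.numGeomBranchesAt X x =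
        ∑' x' : {x' : ↥(Curv2.normalization X) // (Curv2.normalizationι X).base x' = x},
          (letI := ((Curv2.normalizationι X).residueFieldMap x'.1).hom.toAlgebra
           ENat.card (Field.Emb (X.residueField ((Curv2.normalizationι X).base x'.1))
             ((Curv2.normalization X).residueField x'.1))) := by
  have hfin : (minimalPrimes (X.presheaf.stalk x)).Finite := by
    refine (Set.finite_singleton ⊥).subset fun q hq => ?_
    exact le_bot_iff.mp (hq.2 ⟨Ideal.isPrime_bot, le_rfl⟩ bot_le)
  obtain ⟨F, hF⟩ := exists_fibre_equiv x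
  refine ⟨?_, ?_⟩
  · rw [Brnch.numBranchesAt, Brnch.numBranches, if_pos hfin]
    exact (ENat.card_congr F).symm
  · rw [Brnch.numGeomBranchesAt, Brnch.numGeomBranches, if_pos hfin, tsum_enat_card]
    exact (ENat.card_congr (Equiv.sigmaCongr F fun x' => (hF x').some)).symm

end Groth.Agent.NormalizationAffine
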