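import Groth.Agent.NormalizationAffine.Basic
import Groth.Agent.QCohLib.Sections
import Groth.Prelude.Def_ClSub2
import Groth.Prelude.Def_FlatMod2
import Groth.Prelude.Def_Found

set_option autoImplicit false
set_option linter.style.haveILetI false

/-!
# The quotient `ν_* O / O` of the normalization of a Nagata scheme of dimension one
-/

namespace Groth.Agent.NormalizationAffine

universe u

open CategoryTheory CategoryTheory.Limits AlgebraicGeometry Opposite TopologicalSpace Groth.Agent

variable {X : Scheme.{u}} [IsIntegral X]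
  [QuasiCompact (X.fromSpecStalk (genericPoint X))] [QuasiSeparated (X.fromSpecStalk (genericPoint X))]

theorem toK_eq (U : X.Opens) [Nonempty U]
    (h : ⊤ ≤ (X.fromSpecStalk (genericPoint X)).toNormalization ⁻¹ᵁ
      ((X.fromSpecStalk (genericPoint X)).fromNormalization ⁻¹ᵁ U)) :
    toK U = ((X.fromSpecStalk (genericPoint X)).toNormalization.appLE
      ((X.fromSpecStalk (genericPoint X)).fromNormalization ⁻¹ᵁ U) ⊤ h ≫ (Scheme.ΓSpecIso _).hom).hom := by
  simp only [toK, genericIso, Iso.trans_hom, Functor.mapIso_hom, Iso.op_hom, eqToIso.hom]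
  rw [← Category.assoc, Scheme.Hom.appLE_map]

theorem top_le_preimage (U : X.Opens) [Nonempty U] :
    ⊤ ≤ (X.fromSpecStalk (genericPoint X)).toNormalization ⁻¹ᵁ
      ((X.fromSpecStalk (genericPoint X)).fromNormalization ⁻¹ᵁ U) := by
  simp [← Scheme.Hom.comp_preimage, preimage_fromSpecStalk U]

theorem toK_res {U V : X.Opens} [Nonempty U] [Nonempty V] (h : V ≤ U) (t : Sect U) :
    toK V ((Curv2.normalization X).presheaf.map
      (homOfLE ((Curv2.normalizationι X).preimage_mono h)).op t) = toK U t := by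
  have hc := congrArg (· ≫ (Scheme.ΓSpecIso (X.functionField)).hom)
    ((X.fromSpecStalk (genericPoint X)).toNormalization.map_appLE (top_le_preimage V)
      (homOfLE ((X.fromSpecStalk (genericPoint X)).fromNormalization.preimage_mono h)).op)
  simp only [Category.assoc] at hc
  rw [toK_eq U (top_le_preimage U), toK_eq V (top_le_preimage V)]
  exact ConcreteCategory.congr_hom hc t

theorem isIso_map_eqToHom {Y : Scheme.{u}} {a b : Y.Opens} (g : a ⟶ b) (h : a = b) :
    IsIso (Y.presheaf.map g.op) := by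
  subst h
  rw [show g = 𝟙 a from Subsingleton.elim _ _, op_id, CategoryTheory.Functor.map_id]
  infer_instance

theorem exists_affine_nhd {W : X.Opens} {x : X} (hx : x ∈ W) :
    ∃ U : X.Opens, IsAffineOpen U ∧ x ∈ U ∧ U ≤ W := by
  obtain ⟨U, hU, hxU, hUW⟩ := exists_isAffineOpen_mem_and_subset hx
  exact ⟨U, hU, hxU, hUW⟩

/-- `ν_* O`. -/
noncomputable abbrev pushUnit (X : Scheme.{u}) [IsIntegral X]
    [QuasiCompact (X.fromSpecStalk (genericPoint X))]
    [QuasiSeparated (X.fromSpecStalk (genericPoint X))] : X.Modules :=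
  (Scheme.Modules.pushforward (Curv2.normalizationι X)).obj
    (Coh.structureModule (Curv2.normalization X))

theorem app_injective (V : X.Opens) :
    Function.Injective ((ClSub.unitToPush (Curv2.normalizationι X)).app V) := by
  intro a b h
  rcases isEmpty_or_nonempty V with hV | hV
  · refine QCohLib.section_ext (M := Coh.structureModule X) a b fun x hx => ?_
    exact (hV.false ⟨x, hx⟩).elim
  · apply X.germToFunctionField_injective V
    have h' := congrArg (toK V) (show (algebraMap Γ(X, V) (Sect V)) a =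
      (algebraMap Γ(X, V) (Sect V)) b from h)
    exact (toK_algebraMap V a).symm.trans (h'.trans (toK_algebraMap V b))

theorem mono_unitToPush : Mono (ClSub.unitToPush (Curv2.normalizationι X)) :=
  (QCohLib.mono_iff_app_injective _).mpr app_injective

theorem exists_stalk_linearEquiv (x : X) :
    ∃ e : (pushUnit X).presheaf.stalk x ≃ₗ[X.presheaf.stalk x]
        integralClosure (X.presheaf.stalk x) X.functionField,
      ∀ m, ∃ a, e (QCohLib.stalkHom (ClSub.unitToPush (Curv2.normalizationι X)) x m) =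
        algebraMap (X.presheaf.stalk x) _ a ∧
      ∀ a, ∃ m, e (QCohLib.stalkHom (ClSub.unitToPush (Curv2.normalizationι X)) x m) =
        algebraMap (X.presheaf.stalk x) _ a := by
  classical
  set N := pushUnit X
  have hne : ∀ {V : X.Opens}, x ∈ V → Nonempty V := fun hx => ⟨⟨x, hx⟩⟩
  let val : ∀ (V : X.Opens), x ∈ V → Γ(N, V) → X.functionField := fun V hxV t =>
    haveI := hne hxV; toK V (t : Sect V)
  have val_res : ∀ {V W : X.Opens} (h : W ≤ V) (hxW : x ∈ W) (t : Γ(N, V)),
      val W hxW (N.presheaf.map (homOfLE h).op t) = val V (h hxW) t := by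
    intro V W h hxW t
    haveI := hne hxW
    haveI := hne (h hxW)
    exact toK_res h t
  have val_wd : ∀ {V W : X.Opens} (hV : x ∈ V) (hW : x ∈ W) (t : Γ(N, V)) (s : Γ(N, W)),
      N.presheaf.germ V x hV t = N.presheaf.germ W x hW s → val V hV t = val W hW s := by
    intro V W hV hW t s h
    obtain ⟨Z, hxZ, iV, iW, e⟩ := N.presheaf.germ_eq x hV hW t s h
    rw [← val_res iV.le hxZ t, ← val_res iW.le hxZ s]
    exact congrArg (val Z hxZ) e
  have hex := fun m : N.presheaf.stalk x => N.presheaf.exists_germ_eq m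
  choose V hxV t ht using hex
  let Φ : N.presheaf.stalk x → X.functionField := fun m => val (V m) (hxV m) (t m)
  have hΦ : ∀ {W : X.Opens} (hW : x ∈ W) (s : Γ(N, W)), Φ (N.presheaf.germ W x hW s) = val W hW s :=
    fun hW s => val_wd _ hW _ s (ht _)
  have hΦadd : ∀ m n, Φ (m + n) = Φ m + Φ n := by
    intro m n
    obtain ⟨U, hxU, a, rfl⟩ := N.presheaf.exists_germ_eq m
    obtain ⟨W, hxW, b, rfl⟩ := N.presheaf.exists_germ_eq n
    have hxUW : x ∈ U ⊓ W := ⟨hxU, hxW⟩
    haveI := hne hxUW
    rw [← TopCat.Presheaf.germ_res_apply N.presheaf (homOfLE inf_le_left : U ⊓ W ⟶ U) x hxUW a,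
      ← TopCat.Presheaf.germ_res_apply N.presheaf (homOfLE inf_le_right : U ⊓ W ⟶ W) x hxUW b,
      ← map_add, hΦ, hΦ, hΦ]
    exact map_add (toK (U ⊓ W)) _ _
  have hΦsmul : ∀ (r : X.presheaf.stalk x) m, Φ (r • m) = r • Φ m := by
    intro r m
    obtain ⟨U, hxU, a, rfl⟩ := N.presheaf.exists_germ_eq m
    obtain ⟨W, hxW, b, rfl⟩ := X.presheaf.exists_germ_eq r
    have hxUW : x ∈ U ⊓ W := ⟨hxU, hxW⟩
    haveI := hne hxUW
    rw [← TopCat.Presheaf.germ_res_apply N.presheaf (homOfLE inf_le_left : U ⊓ W ⟶ U) x hxUW a,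
      ← TopCat.Presheaf.germ_res_apply X.presheaf (homOfLE inf_le_right : U ⊓ W ⟶ W) x hxUW b,
      ← QCohLib.germ_smul, hΦ, hΦ, Algebra.smul_def,
      Scheme.algebraMap_germ_eq_germToFunctionField]
    show toK (U ⊓ W) (algebraMap Γ(X, U ⊓ W) (Sect (U ⊓ W)) _ * (_ : Sect (U ⊓ W))) = _
    exact ((toK (U ⊓ W)).map_mul _ _).trans (congrArg (· * _) (toK_algebraMap _ _))
  let L : N.presheaf.stalk x →ₗ[X.presheaf.stalk x] X.functionField :=
    { toFun := Φ, map_add' := hΦadd, map_smul' := hΦsmul }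
  have hint : ∀ m, L m ∈ integralClosure (X.presheaf.stalk x) X.functionField := by
    intro m
    obtain ⟨U, hxU, a, rfl⟩ := N.presheaf.exists_germ_eq m
    obtain ⟨W, hW, hxW, hWU⟩ := exists_affine_nhd hxU
    haveI := hne hxW
    haveI := isIntegralClosure_sect hW
    letI : Algebra Γ(X, W) (X.presheaf.stalk x) :=
      TopCat.Presheaf.algebra_section_stalk X.presheaf ⟨x, hxW⟩
    haveI : IsScalarTower Γ(X, W) (X.presheaf.stalk x) X.functionField :=
      functionField_isScalarTower X W ⟨x, hxW⟩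
    show Φ _ ∈ _
    rw [← TopCat.Presheaf.germ_res_apply N.presheaf (homOfLE hWU) x hxW a, hΦ]
    refine IsIntegral.tower_top (R := Γ(X, W)) ?_
    exact (IsIntegralClosure.isIntegral_iff (A := Sect W) (R := Γ(X, W)) (B := X.functionField)).mpr
      ⟨_, rfl⟩
  let L' : N.presheaf.stalk x →ₗ[X.presheaf.stalk x] integralClosure (X.presheaf.stalk x) X.functionField :=
    L.codRestrict (Subalgebra.toSubmodule (integralClosure (X.presheaf.stalk x) X.functionField)) hint
  have hinj : Function.Injective L' := by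
    rw [injective_iff_map_eq_zero]
    intro m hm
    obtain ⟨U, hxU, a, rfl⟩ := N.presheaf.exists_germ_eq m
    obtain ⟨W, hW, hxW, hWU⟩ := exists_affine_nhd hxU
    haveI := hne hxW
    haveI := isIntegralClosure_sect hW
    have h0 : Φ (N.presheaf.germ U x hxU a) = 0 := congrArg Subtype.val hm
    rw [← TopCat.Presheaf.germ_res_apply N.presheaf (homOfLE hWU) x hxW a] at h0 ⊢
    rw [hΦ] at h0
    have h1 : (N.presheaf.map (homOfLE hWU).op a : Sect W) = 0 :=
      IsIntegralClosure.algebraMap_injective (Sect W) Γ(X, W) X.functionField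
        (h0.trans (map_zero _).symm)
    rw [show N.presheaf.map (homOfLE hWU).op a = 0 from h1, map_zero]
  have hsurj : Function.Surjective L' := by
    intro c
    obtain ⟨U, hU, hxU, -⟩ := exists_affine_nhd (W := ⊤) (x := x) trivial
    haveI := hne hxU
    haveI := isIntegralClosure_sect hU
    letI : Algebra Γ(X, U) (X.presheaf.stalk x) :=
      TopCat.Presheaf.algebra_section_stalk X.presheaf ⟨x, hxU⟩
    haveI : IsScalarTower Γ(X, U) (X.presheaf.stalk x) X.functionField :=
      functionField_isScalarTower X U ⟨x, hxU⟩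
    haveI := hU.isLocalization_stalk ⟨x, hxU⟩
    obtain ⟨⟨s, hs⟩, hsint⟩ :=
      (show IsIntegral (X.presheaf.stalk x) (c : X.functionField) from c.2).exists_multiple_integral_of_isLocalization
        (hU.primeIdealOf ⟨x, hxU⟩).asIdeal.primeCompl _
    obtain ⟨b, hb⟩ := (IsIntegralClosure.isIntegral_iff (A := Sect U) (R := Γ(X, U))
      (B := X.functionField)).mp hsint
    obtain ⟨w, hw⟩ := (IsLocalization.map_units (X.presheaf.stalk x)
      (⟨s, hs⟩ : (hU.primeIdealOf ⟨x, hxU⟩).asIdeal.primeCompl))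
    refine ⟨(↑w⁻¹ : X.presheaf.stalk x) • N.presheaf.germ U x hxU b, Subtype.ext ?_⟩
    show Φ _ = _
    rw [hΦsmul]
    refine (congrArg _ (hΦ hxU b)).trans ?_
    show (↑w⁻¹ : X.presheaf.stalk x) • algebraMap (Sect U) X.functionField b = _
    rw [hb, Submonoid.mk_smul, ← IsScalarTower.algebraMap_smul (X.presheaf.stalk x) s (c : X.functionField),
      smul_smul, ← hw, Units.inv_mul, one_smul]
  refine ⟨LinearEquiv.ofBijective L' ⟨hinj, hsurj⟩, fun m => ?_⟩
  obtain ⟨W, hxW, a, rfl⟩ := (Coh.structureModule X).presheaf.exists_germ_eq m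
  haveI := hne hxW
  refine ⟨X.presheaf.germ W x hxW a, ?_, fun b => ?_⟩
  · refine Subtype.ext ?_
    show Φ _ = algebraMap (X.presheaf.stalk x) X.functionField _
    refine (congrArg Φ (QCohLib.stalkHom_germ _ W x hxW a)).trans ((hΦ hxW _).trans ?_)
    exact (toK_algebraMap W a).trans (Scheme.algebraMap_germ_eq_germToFunctionField X hxW (a : Γ(X, W))).symm
  · obtain ⟨Z, hxZ, b', rfl⟩ := X.presheaf.exists_germ_eq b
    haveI := hne hxZ
    refine ⟨(Coh.structureModule X).presheaf.germ Z x hxZ b', Subtype.ext ?_⟩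
    show Φ _ = algebraMap (X.presheaf.stalk x) X.functionField _
    refine (congrArg Φ (QCohLib.stalkHom_germ (ClSub.unitToPush (Curv2.normalizationι X)) Z x hxZ (b' : Γ(Coh.structureModule X, Z)))).trans ((hΦ hxZ _).trans ?_)
    exact (toK_algebraMap Z b').trans (Scheme.algebraMap_germ_eq_germToFunctionField X hxZ (b' : Γ(X, Z))).symm

theorem stalkHom_cokernel_ker {M N : X.Modules} (φ : M ⟶ N) [Mono φ] (x : X)
    (n : N.presheaf.stalk x) (hn : QCohLib.stalkHom (cokernel.π φ) x n = 0) :
    ∃ m, QCohLib.stalkHom φ x m = n := by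
  obtain ⟨U, hxU, t, rfl⟩ := N.presheaf.exists_germ_eq n
  rw [QCohLib.stalkHom_germ, ← map_zero ((cokernel φ).presheaf.germ U x hxU).hom] at hn
  obtain ⟨W, hxW, i, i', e⟩ := (cokernel φ).presheaf.germ_eq x hxU hxU _ _ hn
  rw [map_zero] at e
  let S := ShortComplex.mk φ (cokernel.π φ) (cokernel.condition φ)
  have hS : S.ShortExact := { exact := ShortComplex.exact_cokernel φ }
  obtain ⟨c, hc⟩ := (QCohLib.sections_exact_of_shortExact hS W).2
    (N.presheaf.map i.op t) (by
      rw [show i = homOfLE i.le from rfl]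
      exact (QCohLib.app_map (cokernel.π φ) i.le t).trans e)
  refine ⟨M.presheaf.germ W x hxW c, ?_⟩
  rw [QCohLib.stalkHom_germ, show φ.app W c = _ from hc, TopCat.Presheaf.germ_res_apply]

theorem length_cokernel_stalk (x : X) :
    Module.length (X.presheaf.stalk x)
        ((cokernel (ClSub.unitToPush (Curv2.normalizationι X))).presheaf.stalk x) =
      Curv2.deltaInv (X.presheaf.stalk x) := by
  classical
  haveI := mono_unitToPush (X := X)
  set φ := ClSub.unitToPush (Curv2.normalizationι X)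
  obtain ⟨e, he⟩ := exists_stalk_linearEquiv x
  let π := (QCohLib.stalkLinearMap (cokernel.π φ) x).comp e.symm.toLinearMap
  have hπ : Function.Surjective π :=
    ((QCohLib.epi_iff_stalk_surjective (cokernel.π φ)).mp inferInstance x).comp e.symm.surjective
  have hker : LinearMap.ker π =
      LinearMap.range (Algebra.linearMap (X.presheaf.stalk x) (integralClosure (X.presheaf.stalk x) X.functionField)) := by
    ext c
    constructor
    · intro hc
      obtain ⟨m, hm⟩ := stalkHom_cokernel_ker φ x (e.symm c) hc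
      obtain ⟨a, ha, -⟩ := he m
      refine ⟨a, ?_⟩
      rw [Algebra.linearMap_apply, ← ha, hm, LinearEquiv.apply_symm_apply]
    · rintro ⟨a, rfl⟩
      obtain ⟨-, -, h⟩ := he 0
      obtain ⟨m, hm⟩ := h a
      rw [LinearMap.mem_ker, Algebra.linearMap_apply, ← hm]
      show QCohLib.stalkHom (cokernel.π φ) x (e.symm (e _)) = 0
      rw [LinearEquiv.symm_apply_apply, ← QCohLib.stalkHom_comp, cokernel.condition,
        QCohLib.stalkHom_zero]
  rw [← (LinearMap.quotKerEquivOfSurjective π hπ).length_eq, hker]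
  let φK : FractionRing (X.presheaf.stalk x) ≃ₐ[X.presheaf.stalk x] X.functionField :=
    FractionRing.algEquiv (X.presheaf.stalk x) X.functionField
  refine ((Submodule.Quotient.equiv _ _ φK.mapIntegralClosure.toLinearEquiv ?_).length_eq).symm
  rw [← LinearMap.range_comp]
  exact congrArg LinearMap.range (LinearMap.ext fun a => φK.mapIntegralClosure.commutes a)

theorem stalk_isField_of_not_isClosed (hdim : topologicalKrullDim X ≤ 1) {x : X}
    (hx : ¬ IsClosed ({x} : Set X)) : IsField (X.presheaf.stalk x) := by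
  obtain ⟨y, hy, hyx⟩ : ∃ y, y ∈ closure ({x} : Set X) ∧ y ≠ x := by
    by_contra! h
    exact hx (closure_subset_iff_isClosed.mp fun y hy => h y hy)
  obtain ⟨U, hU, hyU, -⟩ := exists_affine_nhd (W := ⊤) (x := y) trivial
  have hspec : x ⤳ y := specializes_iff_mem_closure.mpr hy
  have hxU : x ∈ U := hspec.mem_open U.isOpen hyU
  haveI : Nonempty U := ⟨⟨x, hxU⟩⟩
  have hle : hU.primeIdealOf ⟨x, hxU⟩ ≤ hU.primeIdealOf ⟨y, hyU⟩ := by
    rw [PrimeSpectrum.le_iff_specializes]
    refine hU.fromSpec.isOpenEmbedding.isInducing.specializes_iff.mp ?_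
    rw [hU.fromSpec_primeIdealOf, hU.fromSpec_primeIdealOf]
    exact hspec
  have hne : hU.primeIdealOf ⟨x, hxU⟩ ≠ hU.primeIdealOf ⟨y, hyU⟩ := fun h => hyx (by
    have := congrArg hU.fromSpec h
    rw [hU.fromSpec_primeIdealOf, hU.fromSpec_primeIdealOf] at this
    exact this.symm)
  haveI : Ring.KrullDimLE 1 Γ(X, U) := by
    rw [Ring.krullDimLE_iff, ← PrimeSpectrum.topologicalKrullDim_eq_ringKrullDim]
    exact (hU.fromSpec.isOpenEmbedding.isInducing.topologicalKrullDim_le).trans hdim
  have hbot : (hU.primeIdealOf ⟨x, hxU⟩).asIdeal = ⊥ := by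
    by_contra h
    exact hne (PrimeSpectrum.ext ((Ring.krullDimLE_one_iff_of_isPrime_bot.mp ‹_› _ h
      (hU.primeIdealOf ⟨x, hxU⟩).isPrime).eq_of_le (hU.primeIdealOf ⟨y, hyU⟩).isPrime.ne_top hle))
  letI : Algebra Γ(X, U) (X.presheaf.stalk x) :=
    TopCat.Presheaf.algebra_section_stalk X.presheaf ⟨x, hxU⟩
  haveI hloc := hU.isLocalization_stalk ⟨x, hxU⟩
  haveI : IsFractionRing Γ(X, U) (X.presheaf.stalk x) := by
    have : (hU.primeIdealOf ⟨x, hxU⟩).asIdeal.primeCompl = nonZeroDivisors Γ(X, U) := by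
      ext a
      rw [mem_nonZeroDivisors_iff_ne_zero]
      show a ∉ (hU.primeIdealOf ⟨x, hxU⟩).asIdeal ↔ _
      rw [hbot, Ideal.mem_bot]
    show IsLocalization _ _
    rw [← this]
    exact hloc
  exact IsFractionRing.toField Γ(X, U) |>.toIsField

theorem deltaInv_of_isField {S : Type u} [CommRing S] [IsDomain S] (hS : IsField S) :
    Curv2.deltaInv S = 0 := by
  letI := hS.toField
  rw [Curv2.deltaInv, Module.length_eq_zero_iff, Submodule.Quotient.subsingleton_iff,
    LinearMap.range_eq_top]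
  intro w
  obtain ⟨y, hy⟩ := IsIntegrallyClosed.isIntegral_iff.mp w.2
  exact ⟨y, Subtype.ext hy⟩

theorem finite_sect {U : X.Opens} (hU : IsAffineOpen U) [Nonempty U] (hN : CAlg.IsNagata Γ(X, U)) :
    Module.Finite Γ(X, U) (Sect U) := by
  haveI := hN.1
  haveI := isIntegralClosure_sect hU
  haveI := functionField_isFractionRing_of_isAffineOpen X U hU
  let L := FractionRing (Γ(X, U) ⧸ (⊥ : Ideal Γ(X, U)))
  haveI h2 : Module.Finite (Γ(X, U) ⧸ (⊥ : Ideal Γ(X, U))) (integralClosure (Γ(X, U) ⧸ (⊥ : Ideal Γ(X, U))) L) :=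
    hN.2 ⊥ L inferInstance
  haveI : Module.Finite Γ(X, U) (integralClosure (Γ(X, U) ⧸ (⊥ : Ideal Γ(X, U))) L) :=
    Module.Finite.trans (Γ(X, U) ⧸ (⊥ : Ideal Γ(X, U))) _
  let q : Γ(X, U) →ₐ[Γ(X, U)] (Γ(X, U) ⧸ (⊥ : Ideal Γ(X, U))) := Ideal.Quotient.mkₐ Γ(X, U) ⊥
  have hq : Function.Bijective q := ⟨(injective_iff_map_eq_zero q).mpr fun a ha =>
    Ideal.mem_bot.mp (Ideal.Quotient.eq_zero_iff_mem.mp ha), Ideal.Quotient.mk_surjective⟩
  let φ : X.functionField ≃ₐ[Γ(X, U)] L := IsFractionRing.algEquivOfAlgEquiv (AlgEquiv.ofBijective q hq)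
  have hmem : ∀ b : Sect U, φ (algebraMap (Sect U) X.functionField b) ∈
      integralClosure (Γ(X, U) ⧸ (⊥ : Ideal Γ(X, U))) L := fun b =>
    (((IsIntegralClosure.isIntegral_iff (A := Sect U) (R := Γ(X, U)) (B := X.functionField)).mpr
      ⟨b, rfl⟩).map φ.toAlgHom).tower_top
  let f : Sect U →ₗ[Γ(X, U)] integralClosure (Γ(X, U) ⧸ (⊥ : Ideal Γ(X, U))) L :=
    { toFun := fun b => ⟨_, hmem b⟩
      map_add' := fun a b => Subtype.ext (by simp)
      map_smul' := fun c b => Subtype.ext (by
        show φ (algebraMap (Sect U) X.functionField (c • b)) = c • φ (algebraMap (Sect U) X.functionField b)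
        rw [Algebra.smul_def, map_mul, ← IsScalarTower.algebraMap_apply, ← Algebra.smul_def, map_smul]) }
  exact Module.Finite.of_injective f fun a b h =>
    IsIntegralClosure.algebraMap_injective (Sect U) Γ(X, U) X.functionField
      (φ.injective (congrArg Subtype.val h))

theorem isFinite_normalizationι (hN : ∀ U : X.affineOpens, CAlg.IsNagata Γ(X, (U : X.Opens))) :
    IsFinite (Curv2.normalizationι X) := by
  haveI : IsAffineHom (Curv2.normalizationι X) :=
    inferInstanceAs (IsAffineHom (X.fromSpecStalk (genericPoint X)).fromNormalization)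
  refine { finite_app := fun U hU => ?_ }
  rcases isEmpty_or_nonempty U with h | h
  · have hbot : (Curv2.normalizationι X) ⁻¹ᵁ U = ⊥ := eq_bot_iff.mpr fun z hz => (h.false ⟨_, hz⟩).elim
    haveI : Subsingleton Γ(Curv2.normalization X, (Curv2.normalizationι X) ⁻¹ᵁ U) := by
      rw [hbot]; infer_instance
    exact RingHom.Finite.of_surjective _ fun y => ⟨0, Subsingleton.elim _ _⟩
  · exact finite_sect hU (hN ⟨U, hU⟩)

theorem exists_dense_isIso (hN : ∀ U : X.affineOpens, CAlg.IsNagata Γ(X, (U : X.Opens))) :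
    ∃ D : X.Opens, Dense ((D : Set X)) ∧ IsIso (Curv2.normalizationι X ∣_ D) := by
  classical
  obtain ⟨U, hU, hηU, -⟩ := exists_affine_nhd (W := (⊤ : X.Opens)) (x := genericPoint X) trivial
  haveI : Nonempty U := ⟨⟨_, hηU⟩⟩
  haveI := isIntegralClosure_sect hU
  haveI := functionField_isFractionRing_of_isAffineOpen X U hU
  haveI := finite_sect hU (hN ⟨U, hU⟩)
  obtain ⟨S, hS⟩ := (Module.Finite.fg_top : (⊤ : Submodule Γ(X, U) (Sect U)).FG)
  obtain ⟨c, hc⟩ := IsLocalization.exist_integer_multiples_of_finset (nonZeroDivisors Γ(X, U))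
    (S.image (algebraMap (Sect U) X.functionField))
  have hcB : ∀ b : Sect U, ∃ a : Γ(X, U),
      algebraMap Γ(X, U) X.functionField a = (c : Γ(X, U)) • algebraMap (Sect U) X.functionField b := by
    intro b
    have hb : b ∈ Submodule.span Γ(X, U) (S : Set (Sect U)) := by rw [hS]; trivial
    refine Submodule.span_induction (p := fun v _ => ∃ a : Γ(X, U),
      algebraMap Γ(X, U) X.functionField a = (c : Γ(X, U)) • algebraMap (Sect U) X.functionField v) ?_ ?_ ?_ ?_ hb
    · intro v hv
      exact hc _ (Finset.mem_image_of_mem _ hv)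
    · exact ⟨0, by simp⟩
    · rintro v w _ _ ⟨a, ha⟩ ⟨a', ha'⟩
      exact ⟨a + a', by rw [map_add, map_add, smul_add, ha, ha']⟩
    · rintro r v _ ⟨a, ha⟩
      refine ⟨r * a, ?_⟩
      rw [map_mul, ha, Algebra.smul_def r v, map_mul, ← IsScalarTower.algebraMap_apply,
        Algebra.smul_def, Algebra.smul_def]
      ring
  set D := X.basicOpen (c : Γ(X, U)) with hD
  have hηD : genericPoint X ∈ D := by
    rw [hD, Scheme.mem_basicOpen _ _ _ hηU]
    exact Ne.isUnit (IsLocalization.to_map_ne_zero_of_mem_nonZeroDivisors X.functionField le_rfl c.2)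
  haveI : Nonempty D := ⟨⟨_, hηD⟩⟩
  have hDaff : IsAffineOpen D := hU.basicOpen (c : Γ(X, U))
  haveI := isIntegralClosure_sect hDaff
  letI := ((X.presheaf.map (homOfLE (X.basicOpen_le (c : Γ(X, U)))).op).hom).toAlgebra
  haveI := hU.isLocalization_basicOpen (c : Γ(X, U))
  haveI : IsScalarTower Γ(X, U) Γ(X, D) X.functionField := IsScalarTower.of_algebraMap_eq fun a =>
    (TopCat.Presheaf.germ_res_apply X.presheaf (homOfLE (X.basicOpen_le (c : Γ(X, U)))) (genericPoint X) hηD a).symm
  have hbij : Function.Bijective ((Curv2.normalizationι X).app D) := by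
    refine ⟨fun a b h => ?_, fun y => ?_⟩
    · apply X.germToFunctionField_injective D
      have h' := congrArg (toK D) (show algebraMap Γ(X, D) (Sect D) a = algebraMap Γ(X, D) (Sect D) b from h)
      rwa [toK_algebraMap, toK_algebraMap] at h'
    · obtain ⟨⟨s, hs⟩, hint⟩ := ((IsIntegralClosure.isIntegral_iff (A := Sect D) (R := Γ(X, D))
        (B := X.functionField)).mpr ⟨y, rfl⟩).exists_multiple_integral_of_isLocalization
          (Submonoid.powers (c : Γ(X, U))) _
      obtain ⟨b, hb⟩ := (IsIntegralClosure.isIntegral_iff (A := Sect U) (R := Γ(X, U))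
        (B := X.functionField)).mp hint
      obtain ⟨a, ha⟩ := hcB b
      obtain ⟨n, rfl⟩ := hs
      obtain ⟨w, hw⟩ := IsLocalization.map_units Γ(X, D)
        (⟨(c : Γ(X, U)) ^ (n + 1), n + 1, rfl⟩ : Submonoid.powers (c : Γ(X, U)))
      refine ⟨algebraMap Γ(X, U) Γ(X, D) a * ↑w⁻¹, ?_⟩
      apply IsIntegralClosure.algebraMap_injective (Sect D) Γ(X, D) X.functionField
      show algebraMap (Sect D) X.functionField (algebraMap Γ(X, D) (Sect D) _) = _
      have hwK : algebraMap Γ(X, D) X.functionField w =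
          algebraMap Γ(X, U) X.functionField ((c : Γ(X, U)) ^ (n + 1)) := by
        rw [IsScalarTower.algebraMap_apply Γ(X, U) Γ(X, D) X.functionField, hw]
      have hmul : algebraMap (Sect D) X.functionField y * algebraMap Γ(X, D) X.functionField w =
          algebraMap Γ(X, U) X.functionField a := by
        rw [ha, hb, hwK]
        show _ = (c : Γ(X, U)) • ((c : Γ(X, U)) ^ n • algebraMap (Sect D) X.functionField y)
        rw [Algebra.smul_def, Algebra.smul_def, map_pow, map_pow, pow_succ]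
        ring
      rw [← IsScalarTower.algebraMap_apply, map_mul, ← IsScalarTower.algebraMap_apply, ← hmul,
        mul_assoc, ← map_mul, Units.mul_inv, map_one, mul_one]
  refine ⟨D, IsOpen.dense D.isOpen ⟨_, hηD⟩, ?_⟩
  haveI : IsAffine (D : Scheme) := hDaff
  haveI : IsAffine ((Curv2.normalizationι X) ⁻¹ᵁ D : (Curv2.normalization X).Opens).toScheme :=
    isAffineOpen_preimage hDaff
  haveI : IsIso ((Curv2.normalizationι X) ∣_ D).appTop := by
    have hall : ∀ V : X.Opens, V = D → IsIso ((Curv2.normalizationι X).app V) := by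
      rintro V rfl
      exact (ConcreteCategory.isIso_iff_bijective _).mpr hbij
    rw [morphismRestrict_appTop]
    refine @IsIso.comp_isIso _ _ _ _ _ _ _ ?_ ?_
    · exact hall _ D.ι_image_top
    · exact isIso_map_eqToHom _ (image_morphismRestrict_preimage (Curv2.normalizationι X) D ⊤)
  exact ((MorphismProperty.isomorphisms Scheme).arrow_mk_iso_iff
    (arrowIsoSpecΓOfIsAffine ((Curv2.normalizationι X) ∣_ D))).mpr
      (inferInstanceAs (IsIso (Spec.map ((Curv2.normalizationι X) ∣_ D).appTop)))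

end Groth.Agent.NormalizationAffine
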