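import Groth.Agent.NormalizationAffine.Basic
import Groth.Agent.KrullAkizuki.Basic

set_option autoImplicit false
set_option linter.style.haveILetI false

/-!
# Normalization of one-dimensional integral schemes
-/

namespace Groth.Agent.NormalizationAffine

universe u

open CategoryTheory CategoryTheory.Limits AlgebraicGeometry Opposite TopologicalSpace

variable {X : Scheme.{u}} [IsIntegral X]
  [QuasiCompact (X.fromSpecStalk (genericPoint X))] [QuasiSeparated (X.fromSpecStalk (genericPoint X))]

omit [IsIntegral X] [QuasiCompact (X.fromSpecStalk (genericPoint X))]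
  [QuasiSeparated (X.fromSpecStalk (genericPoint X))] in
theorem krullDimLE_section {X : Scheme.{u}} {U : X.Opens} (hU : IsAffineOpen U)
    (hdim : topologicalKrullDim X ≤ 1) : Ring.KrullDimLE 1 Γ(X, U) := by
  rw [Ring.krullDimLE_iff, ← PrimeSpectrum.topologicalKrullDim_eq_ringKrullDim]
  exact (hU.fromSpec.isOpenEmbedding.isInducing.topologicalKrullDim_le).trans hdim

variable {U : X.Opens} [Nonempty U]

theorem algebraMap_functionField_injective (hU : IsAffineOpen U) :
    Function.Injective (algebraMap (Sect U) X.functionField) :=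
  haveI := isIntegralClosure_sect hU
  IsIntegralClosure.algebraMap_injective (Sect U) Γ(X, U) X.functionField

theorem algebraMap_sect_injective : Function.Injective (algebraMap Γ(X, U) (Sect U)) := by
  intro a b h
  apply X.germToFunctionField_injective U
  have := congrArg (toK U) h
  rwa [toK_algebraMap, toK_algebraMap] at this

theorem isDedekindDomain_sect [IsLocallyNoetherian X] (hU : IsAffineOpen U)
    (hdim : topologicalKrullDim X ≤ 1) [IsDomain (Sect U)] : IsDedekindDomain (Sect U) := by
  haveI := isIntegralClosure_sect hU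
  haveI : IsNoetherianRing Γ(X, U) := IsLocallyNoetherian.component_noetherian ⟨U, hU⟩
  haveI := krullDimLE_section hU hdim
  haveI := functionField_isFractionRing_of_isAffineOpen X U hU
  obtain ⟨j, hj⟩ := Groth.Agent.KrullAkizuki.exists_embedding (R := Γ(X, U)) (K := X.functionField)
    (algebraMap_functionField_injective hU)
  haveI := Groth.Agent.KrullAkizuki.isNoetherianRing_of_injective j hj
  haveI := Groth.Agent.KrullAkizuki.dimensionLEOne_of_injective j hj
  haveI : IsFractionRing (Sect U) X.functionField :=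
    IsIntegralClosure.isFractionRing_of_finite_extension Γ(X, U) X.functionField X.functionField (Sect U)
  haveI : Algebra.IsIntegral Γ(X, U) (Sect U) :=
    IsIntegralClosure.isIntegral_algebra Γ(X, U) X.functionField
  haveI : IsIntegrallyClosed (Sect U) :=
    (isIntegrallyClosed_iff X.functionField).mpr fun {x} hx =>
      IsIntegralClosure.isIntegral_iff.mp (isIntegral_trans (R := Γ(X, U)) x hx)
  exact {}

theorem isDomain_sect (hU : IsAffineOpen U) : IsDomain (Sect U) :=
  (algebraMap_functionField_injective hU).isDomain _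

theorem isLocallyNoetherian_normalization [IsLocallyNoetherian X] (hdim : topologicalKrullDim X ≤ 1) :
    IsLocallyNoetherian (Curv2.normalization X) := by
  refine isLocallyNoetherian_of_affine_cover
    (S := fun U : {U : X.affineOpens // (U : X.Opens) ≠ ⊥} =>
      ⟨(Curv2.normalizationι X) ⁻¹ᵁ U.1.1, isAffineOpen_preimage U.1.2⟩) ?_ ?_
  · refine eq_top_iff.mpr fun z _ => ?_
    obtain ⟨V, hV, hxV, -⟩ := exists_isAffineOpen_mem_and_subset
      (show (Curv2.normalizationι X).base z ∈ (⊤ : X.Opens) from trivial)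
    exact Opens.mem_iSup.mpr ⟨⟨⟨V, hV⟩, fun h => by
      have h' : (Curv2.normalizationι X).base z ∈ (⊥ : X.Opens) := h ▸ hxV
      exact h'⟩, hxV⟩
  · intro U
    haveI : Nonempty U.1.1 := by
      by_contra h
      exact U.2 (eq_bot_iff.mpr fun x hx => (h ⟨⟨x, hx⟩⟩).elim)
    haveI := isDomain_sect U.1.2
    haveI := isDedekindDomain_sect U.1.2 hdim
    exact (inferInstance : IsNoetherianRing (Sect U.1.1))

theorem isDedekindDomain_of_affine [IsLocallyNoetherian X] (hdim : topologicalKrullDim X ≤ 1)
    [IsLocallyNoetherian (Curv2.normalization X)]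
    (V : (Curv2.normalization X).Opens) (hV : IsAffineOpen V) [IsDomain Γ(Curv2.normalization X, V)] :
    IsDedekindDomain Γ(Curv2.normalization X, V) := by
  haveI : IsNoetherianRing Γ(Curv2.normalization X, V) :=
    IsLocallyNoetherian.component_noetherian ⟨V, hV⟩
  suffices h : IsDedekindDomainDvr Γ(Curv2.normalization X, V) from
    IsDedekindDomainDvr.isDedekindDomain _
  refine ⟨fun P hP hPp => ?_⟩
  haveI := hPp
  set z := hV.fromSpec (⟨P, hPp⟩ : PrimeSpectrum _) with hz
  have hzV : z ∈ V := by
    have : z ∈ Set.range hV.fromSpec := ⟨_, rfl⟩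
    rwa [hV.range_fromSpec] at this
  letI := TopCat.Presheaf.algebra_section_stalk (Curv2.normalization X).presheaf ⟨z, hzV⟩
  haveI hloc : IsLocalization P.primeCompl ((Curv2.normalization X).presheaf.stalk z) :=
    hV.isLocalization_stalk' ⟨P, hPp⟩ hzV
  obtain ⟨U, hU, hxU, -⟩ := exists_isAffineOpen_mem_and_subset
    (show (Curv2.normalizationι X).base z ∈ (⊤ : X.Opens) from trivial)
  haveI : Nonempty U := ⟨⟨_, hxU⟩⟩
  haveI := isDomain_sect hU
  haveI := isDedekindDomain_sect hU hdim
  have hzU : z ∈ (Curv2.normalizationι X) ⁻¹ᵁ U := hxU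
  letI : Algebra (Sect U) ((Curv2.normalization X).presheaf.stalk z) :=
    TopCat.Presheaf.algebra_section_stalk (Curv2.normalization X).presheaf ⟨z, hzU⟩
  haveI := (isAffineOpen_preimage hU).isLocalization_stalk ⟨z, hzU⟩
  let e := (IsLocalization.algEquiv P.primeCompl (Localization.AtPrime P)
    ((Curv2.normalization X).presheaf.stalk z)).toRingEquiv
  haveI : IsDomain ((Curv2.normalization X).presheaf.stalk z) := e.symm.injective.isDomain _
  haveI : IsDedekindDomain ((Curv2.normalization X).presheaf.stalk z) :=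
    IsLocalization.AtPrime.isDedekindDomain (Sect U)
      ((isAffineOpen_preimage hU).primeIdealOf ⟨z, hzU⟩).asIdeal _
  have hnf : ¬ IsField (Localization.AtPrime P) :=
    IsLocalization.AtPrime.not_isField Γ(Curv2.normalization X, V) hP _
  have hnf' : ¬ IsField ((Curv2.normalization X).presheaf.stalk z) := fun h =>
    hnf (MulEquiv.isField h e.toMulEquiv)
  haveI : IsDiscreteValuationRing ((Curv2.normalization X).presheaf.stalk z) :=
    ((IsDiscreteValuationRing.TFAE ((Curv2.normalization X).presheaf.stalk z) hnf').out 0 2).mpr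
      ‹IsDedekindDomain ((Curv2.normalization X).presheaf.stalk z)›
  haveI : IsPrincipalIdealRing (Localization.AtPrime P) :=
    IsPrincipalIdealRing.of_surjective e.symm.toRingHom e.symm.surjective
  exact { not_a_field' := fun h => hnf (IsLocalRing.isField_iff_maximalIdeal_eq.mpr h) }

theorem finite_fibre [IsLocallyNoetherian X] (hdim : topologicalKrullDim X ≤ 1) (x : X) :
    Finite {x' : ↥(Curv2.normalization X) // (Curv2.normalizationι X).base x' = x} := by
  obtain ⟨U, hU, hxU, -⟩ := exists_isAffineOpen_mem_and_subset (show x ∈ (⊤ : X.Opens) from trivial)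
  haveI : Nonempty U := ⟨⟨_, hxU⟩⟩
  haveI := isDomain_sect hU
  haveI := isIntegralClosure_sect hU
  haveI : Algebra.IsIntegral Γ(X, U) (Sect U) :=
    IsIntegralClosure.isIntegral_algebra Γ(X, U) X.functionField
  haveI : IsNoetherianRing Γ(X, U) := IsLocallyNoetherian.component_noetherian ⟨U, hU⟩
  haveI := krullDimLE_section hU hdim
  haveI := functionField_isFractionRing_of_isAffineOpen X U hU
  obtain ⟨j, hj⟩ := Groth.Agent.KrullAkizuki.exists_embedding (R := Γ(X, U)) (K := X.functionField)
    (algebraMap_functionField_injective hU)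
  set hV := isAffineOpen_preimage (X := X) hU
  have hmem : ∀ x' : {x' : ↥(Curv2.normalization X) // (Curv2.normalizationι X).base x' = x},
      x'.1 ∈ (Curv2.normalizationι X) ⁻¹ᵁ U := fun x' => (x'.2.symm ▸ hxU :)
  set p := (hU.primeIdealOf ⟨x, hxU⟩).asIdeal with hp
  have hcomap : ∀ x', (hV.primeIdealOf ⟨x'.1, hmem x'⟩).asIdeal.comap (algebraMap Γ(X, U) (Sect U)) = p := by
    rintro ⟨x', rfl⟩
    have h := IsAffineOpen.comap_primeIdealOf_appLE (f := Curv2.normalizationι X) (x := x') U hU
      ((Curv2.normalizationι X) ⁻¹ᵁ U) hV le_rfl hxU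
    rw [← Scheme.Hom.app_eq_appLE] at h
    exact congrArg PrimeSpectrum.asIdeal h
  have hfin : {P : Ideal (Sect U) | P.IsPrime ∧ P.comap (algebraMap Γ(X, U) (Sect U)) = p}.Finite := by
    rcases eq_or_ne p ⊥ with h | h
    · refine (Set.finite_singleton ⊥).subset ?_
      rintro P ⟨hP, hc⟩
      haveI := hP
      exact Ideal.eq_bot_of_comap_eq_bot (hc.trans h)
    · obtain ⟨a, hap, ha⟩ := Submodule.exists_mem_ne_zero_of_ne_bot h
      refine (Groth.Agent.KrullAkizuki.finite_primes_containing j hj a ha).subset ?_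
      rintro P ⟨hP, hc⟩
      exact ⟨hP, Ideal.mem_comap.mp (hc.symm ▸ hap)⟩
  haveI := hfin.to_subtype
  refine Finite.of_injective (fun x' =>
    (⟨(hV.primeIdealOf ⟨x'.1, hmem x'⟩).asIdeal, (hV.primeIdealOf ⟨x'.1, hmem x'⟩).isPrime, hcomap x'⟩ :
      {P : Ideal (Sect U) | P.IsPrime ∧ P.comap (algebraMap Γ(X, U) (Sect U)) = p})) ?_
  intro a b h
  have h' : hV.primeIdealOf ⟨a.1, hmem a⟩ = hV.primeIdealOf ⟨b.1, hmem b⟩ :=
    PrimeSpectrum.ext (congrArg Subtype.val h :)
  have := congrArg hV.fromSpec h'
  rw [hV.fromSpec_primeIdealOf, hV.fromSpec_primeIdealOf] at this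
  exact Subtype.ext this

theorem finite_residueFieldMap [IsLocallyNoetherian X] (hdim : topologicalKrullDim X ≤ 1)
    (x' : ↥(Curv2.normalization X)) :
    letI := ((Curv2.normalizationι X).residueFieldMap x').hom.toAlgebra
    Module.Finite (X.residueField ((Curv2.normalizationι X).base x'))
      ((Curv2.normalization X).residueField x') := by
  obtain ⟨U, hU, hxU, -⟩ := exists_isAffineOpen_mem_and_subset
    (show (Curv2.normalizationι X).base x' ∈ (⊤ : X.Opens) from trivial)
  haveI : Nonempty U := ⟨⟨_, hxU⟩⟩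
  haveI := isDomain_sect hU
  haveI := isIntegralClosure_sect hU
  haveI := isDedekindDomain_sect hU hdim
  haveI : IsNoetherianRing Γ(X, U) := IsLocallyNoetherian.component_noetherian ⟨U, hU⟩
  haveI := krullDimLE_section hU hdim
  haveI := functionField_isFractionRing_of_isAffineOpen X U hU
  obtain ⟨j, hj⟩ := Groth.Agent.KrullAkizuki.exists_embedding (R := Γ(X, U)) (K := X.functionField)
    (algebraMap_functionField_injective hU)
  let x := (Curv2.normalizationι X).base x'
  let kx := X.residueField x
  let ky := (Curv2.normalization X).residueField x'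
  let evx : Γ(X, U) →+* kx := (X.evaluation U x hxU).hom
  let evy : Sect U →+* ky :=
    ((Curv2.normalization X).evaluation ((Curv2.normalizationι X) ⁻¹ᵁ U) x' hxU).hom
  let φ : kx →+* ky := ((Curv2.normalizationι X).residueFieldMap x').hom
  have hnat : ∀ a, φ (evx a) = evy (algebraMap Γ(X, U) (Sect U) a) := fun a =>
    Scheme.evaluation_naturality_apply (Curv2.normalizationι X) x' hxU a
  letI : Algebra (Sect U) ((Curv2.normalization X).presheaf.stalk x') :=
    TopCat.Presheaf.algebra_section_stalk (Curv2.normalization X).presheaf ⟨x', hxU⟩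
  haveI := (isAffineOpen_preimage hU).isLocalization_stalk ⟨x', hxU⟩
  set q := ((isAffineOpen_preimage hU).primeIdealOf ⟨x', hxU⟩).asIdeal with hq
  have hevy : ∀ b, evy b = (Curv2.normalization X).residue x'
      (algebraMap (Sect U) ((Curv2.normalization X).presheaf.stalk x') b) := fun b => rfl
  have hker : ∀ b, evy b = 0 ↔ b ∈ q := by
    intro b
    rw [hevy]
    exact (IsLocalRing.residue_eq_zero_iff _).trans
      (IsLocalization.AtPrime.to_map_mem_maximal_iff _ q b)
  have hfrac : ∀ c : ky, ∃ b s : Sect U, s ∉ q ∧ c * evy s = evy b := by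
    intro c
    obtain ⟨w, rfl⟩ := (Curv2.normalization X).residue_surjective x' c
    obtain ⟨⟨b, s⟩, hbs⟩ := IsLocalization.surj q.primeCompl w
    refine ⟨b, s, s.2, ?_⟩
    rw [hevy, hevy, ← map_mul, hbs]
  letI algK : Algebra kx ky := φ.toAlgebra
  show Module.Finite kx ky
  rcases eq_or_ne q ⊥ with hq0 | hq0
  · refine Module.Finite.of_surjective (Algebra.linearMap kx ky) fun c => ?_
    have hrange : ∀ b : Sect U, ∃ u : kx, φ u = evy b := by
      intro b
      obtain ⟨a, d, hd, had⟩ := IsFractionRing.div_surjective (A := Γ(X, U))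
        (algebraMap (Sect U) X.functionField b)
      have hd0 : algebraMap Γ(X, U) X.functionField d ≠ 0 :=
        IsLocalization.to_map_ne_zero_of_mem_nonZeroDivisors X.functionField le_rfl hd
      have he : b * algebraMap Γ(X, U) (Sect U) d = algebraMap Γ(X, U) (Sect U) a := by
        apply algebraMap_functionField_injective hU
        rw [map_mul, ← IsScalarTower.algebraMap_apply, ← IsScalarTower.algebraMap_apply, ← had,
          div_mul_cancel₀ _ hd0]
      have hdy : evy (algebraMap Γ(X, U) (Sect U) d) ≠ 0 := by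
        rw [Ne, hker, hq0, Ideal.mem_bot, map_eq_zero_iff _ algebraMap_sect_injective]
        exact nonZeroDivisors.ne_zero hd
      refine ⟨evx a / evx d, ?_⟩
      rw [map_div₀, hnat, hnat, ← he, map_mul, mul_div_cancel_right₀ _ hdy]
    obtain ⟨b, s, hs, hbs⟩ := hfrac c
    obtain ⟨u, hu⟩ := hrange b
    obtain ⟨v, hv⟩ := hrange s
    have hs0 : evy s ≠ 0 := fun h => hs ((hker s).mp h)
    refine ⟨u / v, ?_⟩
    show φ (u / v) = c
    rw [map_div₀, hu, hv, ← hbs, mul_div_cancel_right₀ _ hs0]
  · haveI hqm : q.IsMaximal :=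
      ((isAffineOpen_preimage hU).primeIdealOf ⟨x', hxU⟩).isPrime.isMaximal hq0
    haveI := Groth.Agent.KrullAkizuki.finite_quotient_of_injective j hj q hq0
    have hsurj : Function.Surjective evy := by
      intro c
      obtain ⟨b, s, hs, hbs⟩ := hfrac c
      obtain ⟨t, p, hp, htp⟩ := hqm.exists_inv hs
      refine ⟨b * t, ?_⟩
      have h1 : evy t * evy s = 1 := by
        have := congrArg evy htp
        rw [map_add, map_mul, (hker p).mpr hp, add_zero, map_one] at this
        exact this
      rw [map_mul, ← hbs, mul_assoc, mul_comm (evy s), h1, mul_one]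
    letI algA : Algebra Γ(X, U) ky := (evy.comp (algebraMap Γ(X, U) (Sect U))).toAlgebra
    letI algB : Algebra Γ(X, U) kx := evx.toAlgebra
    haveI : IsScalarTower Γ(X, U) kx ky := IsScalarTower.of_algebraMap_eq fun a => (hnat a).symm
    let ψ : (Sect U ⧸ q) →ₐ[Γ(X, U)] ky :=
      Ideal.Quotient.liftₐ q { evy with commutes' := fun a => rfl } (fun b hb => (hker b).mpr hb)
    have hψ : Function.Surjective ψ := fun c => by
      obtain ⟨b, hb⟩ := hsurj c
      exact ⟨Ideal.Quotient.mk q b, hb⟩
    haveI : Module.Finite Γ(X, U) ky := Module.Finite.of_surjective ψ.toLinearMap hψ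
    exact Module.Finite.of_restrictScalars_finite Γ(X, U) kx ky

end Groth.Agent.NormalizationAffine
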